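import Mathlib
import Cfsg.Agent.Lib.Blocks.Subsection
import Cfsg.Agent.Lib.Blocks.Rank1

/-!
# Counting subsections when `k(B) = l(B) + 1`

* `term_one`: the term of `x = 1` in Brauer's count is `l(B)`.
* `exists_induced_of_mem`: every element of a defect group gives a subsection.
* `isConj_of_card`: if `k(B) = l(B) + 1` then the nonidentity elements of a defect group are conjugate.
-/

set_option linter.unusedSectionVars false
set_option autoImplicit false
set_option linter.style.haveILetI false

namespace Cfsg.Agent.Lib.BlockOne.Count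

open Cfsg MonoidAlgebra
open Cfsg.Agent.Lib.Blocks.Local Cfsg.Agent.Lib.Blocks.Central
open Cfsg.Agent.Lib.Blocks.Weak Cfsg.Agent.Lib.Blocks.Brauer Cfsg.Agent.Lib.Blocks.Induced
open Cfsg.Agent.Lib.Blocks.PPart Cfsg.Agent.Lib.Blocks.Main Cfsg.Agent.Lib.Blocks.Third
open Cfsg.Agent.Lib.Blocks.General Cfsg.Agent.Lib.Blocks.Defect Cfsg.Agent.Lib.Blocks.Defect2
open Cfsg.Agent.Lib.Blocks.Sections Cfsg.Agent.Lib.Blocks.Heights Cfsg.Agent.Lib.Blocks.Inducing
open Cfsg.Agent.Lib.Blocks.NormSum Cfsg.Agent.Lib.Blocks.Subsection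
open Cfsg.Agent.Lib.BlockT.SylowIn Cfsg.Agent.Lib.BlockP.Stable Cfsg.Agent.Lib.BlockP.Defect
open scoped ComplexConjugate

universe u

variable {G : Type u} [Group G] [Fintype G] {M : Ideal AlgInt} {p : ℕ}
  [hMp : M.IsPrime] [Fact p.Prime] [Fintype (IrrCharacter G)]

/-- The rank of a nonempty set of characters is positive. -/
theorem one_le_blockRank {K : Type u} [Group K] [Finite K] {b : Set (IrrCharacter K)} (hb : b.Nonempty) :
    1 ≤ blockRank p b := by
  classical
  cases nonempty_fintype K
  haveI := Cfsg.Agent.Lib.Char.Ortho.finite_irrCharacter (G := K)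
  letI : Fintype (IrrCharacter K) := Fintype.ofFinite _
  obtain ⟨ψ, hψ⟩ := hb
  rw [blockRank, Submodule.one_le_finrank_iff]
  intro h0
  have h1 : pRegularPart p (ψ : K → ℂ) ∈ Submodule.span ℂ
      ((fun χ : IrrCharacter K => pRegularPart p (χ : K → ℂ)) '' b) :=
    Submodule.subset_span ⟨ψ, hψ, rfl⟩
  rw [h0, Submodule.mem_bot] at h1
  exact Cfsg.Agent.Lib.Blocks.Rank1.pRegularPart_irr_ne_zero _ h1

/-- The number of subsections of `x`. -/
noncomputable def subT (M : Ideal AlgInt) (p : ℕ) (B : Set (IrrCharacter G)) (x : G) : ℕ :=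
  ∑ᶠ b ∈ {b : Set (IrrCharacter ↥(Subgroup.centralizer ({x} : Set G))) |
      IsInducedBlock M (Subgroup.centralizer ({x} : Set G)) b B}, blockRank p b

/-- The term of `x = 1` in Brauer's count is the rank of the block. -/
theorem subT_one (hM : IsPModular p M) {B : Set (IrrCharacter G)} (hB : IsPBlock M B) :
    subT M p B (1 : G) = blockRank p B := by
  classical
  letI : Fintype (Subgroup.centralizer ({(1 : G)} : Set G)) := Fintype.ofFinite _
  haveI := Cfsg.Agent.Lib.Char.Ortho.finite_irrCharacter (G := Subgroup.centralizer ({(1 : G)} : Set G))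
  letI : Fintype (IrrCharacter (Subgroup.centralizer ({(1 : G)} : Set G))) := Fintype.ofFinite _
  apply Nat.cast_injective (R := ℂ)
  let A := indUnion M (Subgroup.centralizer ({(1 : G)} : Set G)) B
  rw [subT, sum_blockRank hM _ (fun b hb => hb.1) A, Cfsg.Agent.Lib.BlockH.Regular.card_mul_blockRank hM hB]
  · have hc : Nat.card (Subgroup.centralizer ({(1 : G)} : Set G)) = Nat.card G := by
      have : Subgroup.centralizer ({(1 : G)} : Set G) = ⊤ := by
        ext g
        simp [Subgroup.mem_centralizer_iff]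
      rw [this]
      exact Nat.card_congr Subgroup.topEquiv.toEquiv
    rw [hc]
    congr 1
    let e : Subgroup.centralizer ({(1 : G)} : Set G) ≃ G :=
      { toFun := fun c => c
        invFun := fun g => ⟨g, by simp [Subgroup.mem_centralizer_iff]⟩
        left_inv := fun c => rfl
        right_inv := fun g => rfl }
    refine Fintype.sum_equiv e _ _ fun y => ?_
    have he : e y = (y : G) := rfl
    by_cases hy : p ∣ orderOf y
    · have hy' : p ∣ orderOf (y : G) := by rwa [Subgroup.orderOf_coe]
      rw [he]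
      trans 0
      · apply Finset.sum_eq_zero
        intro ψ _
        split_ifs
        · rw [Cfsg.Agent.Lib.BlockH.Regular.pRegularPart_apply]
          simp [IsPRegular, hy]
        · rfl
      · symm
        apply Finset.sum_eq_zero
        intro ψ _
        split_ifs
        · rw [Cfsg.Agent.Lib.BlockH.Regular.pRegularPart_apply]
          simp [IsPRegular, hy]
        · rfl
    · have hy' : ¬ p ∣ orderOf (y : G) := by rwa [Subgroup.orderOf_coe]
      have h1 := section_sum_eq hM (x := (1 : G)) ⟨0, by simp⟩ hB y y hy hy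
      simp only [one_mul] at h1
      rw [he]
      trans (∑ ζ : IrrCharacter G, if ζ ∈ B then (ζ : G → ℂ) (y : G) * conj ((ζ : G → ℂ) (y : G)) else 0)
      · rw [h1]
        refine Fintype.sum_congr _ _ fun ψ => ?_
        split_ifs
        · rw [Cfsg.Agent.Lib.BlockH.Regular.pRegularPart_apply]
          simp [IsPRegular, hy]
        · rfl
      · refine Fintype.sum_congr _ _ fun ψ => ?_
        split_ifs
        · rw [Cfsg.Agent.Lib.BlockH.Regular.pRegularPart_apply]
          simp [IsPRegular, hy]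
        · rfl
  · intro ψ
    constructor
    · intro hψ
      exact ⟨blockOf M (ψ : Subgroup.centralizer ({(1 : G)} : Set G) → ℂ), hψ, mem_blockOf_self ψ⟩
    · rintro ⟨b, hb, hψ⟩
      change IsInducedBlock M _ (blockOf M (ψ : Subgroup.centralizer ({(1 : G)} : Set G) → ℂ)) B
      have hb' : IsInducedBlock M (Subgroup.centralizer ({(1 : G)} : Set G)) b B := hb
      rw [← isPBlock_eq_blockOf hb'.1 hψ]
      exact hb'

/-- Every element of a defect group gives a subsection. -/
theorem exists_induced_of_mem (hM : IsPModular p M) {B : Set (IrrCharacter G)} (hB : IsPBlock M B)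
    {D : Subgroup G} (hD : IsDefectGroup p M B D) {x : G} (hxD : x ∈ D) :
    ∃ b : Set (IrrCharacter ↥(Subgroup.centralizer ({x} : Set G))),
      IsInducedBlock M (Subgroup.centralizer ({x} : Set G)) b B := by
  classical
  letI : Fintype (Subgroup.centralizer ({x} : Set G)) := Fintype.ofFinite _
  haveI := Cfsg.Agent.Lib.Char.Ortho.finite_irrCharacter (G := Subgroup.centralizer ({x} : Set G))
  letI : Fintype (IrrCharacter (Subgroup.centralizer ({x} : Set G))) := Fintype.ofFinite _
  obtain ⟨y, hy, hs⟩ := isDefectGroup_isSylowIn hD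
  have hyr := not_dvd_orderOf_of_defectClass hM hB hy
  have hc : Commute x y := by
    have := hs.le hxD
    simp only [Subgroup.mem_centralizer_singleton_iff] at this
    exact this
  have hxo : ∃ k : ℕ, orderOf x = p ^ k := by
    obtain ⟨k, hk⟩ := (IsPGroup.iff_orderOf.mp hs.isPGroup) ⟨x, hxD⟩
    exact ⟨k, by rw [← hk, Subgroup.orderOf_mk]⟩
  obtain ⟨χ₀, hχ₀, hmin⟩ := exists_minExp p (isPBlock_nonempty hB)
  have h0 : blockHeight p B (χ₀ : G → ℂ) = 0 := by
    change (charDegree (χ₀ : G → ℂ)).factorization p - minExp p B = 0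
    omega
  have hv := notMem_value_mul_of_height_zero hM hB hy hχ₀ h0 hs.isPGroup hxD hc
  by_contra hno
  push Not at hno
  have hempty : indUnion M (Subgroup.centralizer ({x} : Set G)) B = ∅ := by
    ext ξ
    simp only [Set.mem_empty_iff_false, iff_false]
    intro hξ
    exact hno _ hξ
  have hpp : IsPPart p (x * y) x := isPPart_mul_of_mem hs.isPGroup hxD hc hyr
  let h : Subgroup.centralizer ({x} : Set G) := ⟨x * y, by
    simp only [Subgroup.mem_centralizer_singleton_iff]
    calc x * y * x = x * (y * x) := by group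
      _ = x * (x * y) := by rw [hc.eq]⟩
  have key := sum_indUnion_mul hM (isBrauerPair_zpowers hxo) hB h hpp le_rfl χ₀
  rw [if_pos hχ₀, hempty] at key
  apply hv
  have h1 : (χ₀ : G → ℂ) (x * y) = 0 := by
    have h2 : (χ₀ : G → ℂ) (x * y) = (χ₀ : G → ℂ) h := rfl
    rw [h2, ← key]
    apply Finset.sum_eq_zero
    intro k _
    have : blockCoeff (∅ : Set (IrrCharacter (Subgroup.centralizer ({x} : Set G)))) k =
        ((idem (∅ : Set (IrrCharacter (Subgroup.centralizer ({x} : Set G)))) :
          Subalgebra.center ℂ (GA _)) : GA _).coeff k := rfl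
    rw [this, idem_empty]
    simp
  rw [h1]
  exact memLocalIdeal_zero

/-- The count of a subsection is positive on a defect group. -/
theorem one_le_subT (hM : IsPModular p M) {B : Set (IrrCharacter G)} (hB : IsPBlock M B)
    {D : Subgroup G} (hD : IsDefectGroup p M B D) {x : G} (hxD : x ∈ D) : 1 ≤ subT M p B x := by
  classical
  haveI := Cfsg.Agent.Lib.Char.Ortho.finite_irrCharacter (G := Subgroup.centralizer ({x} : Set G))
  obtain ⟨b, hb⟩ := exists_induced_of_mem hM hB hD hxD
  rw [subT]
  have hfin : {b : Set (IrrCharacter ↥(Subgroup.centralizer ({x} : Set G))) |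
      IsInducedBlock M (Subgroup.centralizer ({x} : Set G)) b B}.Finite := Set.toFinite _
  rw [finsum_mem_eq_finite_toFinset_sum _ hfin]
  have h1 : b ∈ hfin.toFinset := hfin.mem_toFinset.mpr hb
  refine le_trans ?_ (Finset.single_le_sum (fun _ _ => Nat.zero_le _) h1)
  exact one_le_blockRank (isPBlock_nonempty hb.1)

/-- There is a system of representatives of the classes of `p`-elements containing `1`. -/
theorem exists_reps (p : ℕ) : ∃ X : Finset G, (1 : G) ∈ X ∧ (∀ x ∈ X, ∃ k : ℕ, orderOf x = p ^ k) ∧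
    ∀ g : G, (∃ k : ℕ, orderOf g = p ^ k) → ∃! x, x ∈ X ∧ IsConj g x := by
  classical
  let r : G → G := fun g => Quotient.out (ConjClasses.mk g)
  have hr : ∀ g, IsConj g (r g) := by
    intro g
    have h1 : ConjClasses.mk (r g) = ConjClasses.mk g := Quotient.out_eq (ConjClasses.mk g)
    exact (ConjClasses.mk_eq_mk_iff_isConj.mp h1).symm
  have hr' : ∀ g h, IsConj g h → r g = r h := by
    intro g h hgh
    have : ConjClasses.mk g = ConjClasses.mk h := ConjClasses.mk_eq_mk_iff_isConj.mpr hgh
    simp only [r, this]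
  have hord : ∀ g h : G, IsConj g h → orderOf g = orderOf h := fun g h hgh => orderOf_of_isConj' hgh
  let X : Finset G := (Finset.univ.filter fun g : G => ∃ k : ℕ, orderOf g = p ^ k).image r
  have hone : r 1 = 1 := isConj_one_right.mp (hr 1)
  refine ⟨X, ?_, ?_, ?_⟩
  · refine Finset.mem_image.mpr ⟨1, ?_, hone⟩
    simp only [Finset.mem_filter, Finset.mem_univ, true_and]
    exact ⟨0, by simp⟩
  · intro x hx
    obtain ⟨g, hg, rfl⟩ := Finset.mem_image.mp hx
    simp only [Finset.mem_filter, Finset.mem_univ, true_and] at hg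
    obtain ⟨k, hk⟩ := hg
    exact ⟨k, by rw [← hord g (r g) (hr g), hk]⟩
  · intro g hg
    refine ⟨r g, ⟨Finset.mem_image.mpr ⟨g, ?_, rfl⟩, hr g⟩, ?_⟩
    · simpa using hg
    · rintro x ⟨hx, hgx⟩
      obtain ⟨g', hg', rfl⟩ := Finset.mem_image.mp hx
      exact (hr' g g' (hgx.trans (hr g').symm)).symm

/-- Brauer's count, separating the term of `1`. -/
theorem card_eq_add [DecidableEq G] (hM : IsPModular p M) {B : Set (IrrCharacter G)} (hB : IsPBlock M B) (X : Finset G)
    (h1 : (1 : G) ∈ X) (hX : ∀ x ∈ X, ∃ k : ℕ, orderOf x = p ^ k)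
    (hXrep : ∀ g : G, (∃ k : ℕ, orderOf g = p ^ k) → ∃! x, x ∈ X ∧ IsConj g x) :
    Nat.card B = blockRank p B + ∑ x ∈ X.erase 1, subT M p B x := by
  classical
  rw [card_block_eq hM hB X hX hXrep, ← Finset.add_sum_erase X _ h1]
  congr 1
  exact subT_one hM hB

/-- If `k(B) = l(B) + 1` the nonidentity elements of a defect group are conjugate. -/
theorem isConj_of_card (hM : IsPModular p M) {B : Set (IrrCharacter G)} (hB : IsPBlock M B)
    {D : Subgroup G} (hD : IsDefectGroup p M B D) (hk : Nat.card B = blockRank p B + 1)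
    {u v : G} (hu : u ∈ D) (hv : v ∈ D) (hu1 : u ≠ 1) (hv1 : v ≠ 1) : IsConj u v := by
  classical
  obtain ⟨X, h1, hX, hXrep⟩ := exists_reps (G := G) p
  have hc := card_eq_add hM hB X h1 hX hXrep
  have hsum : ∑ x ∈ X.erase 1, subT M p B x = 1 := by omega
  have hDp := isDefectGroup_isPGroup hD
  have hord : ∀ w ∈ D, ∃ k : ℕ, orderOf w = p ^ k := by
    intro w hw
    obtain ⟨k, hk⟩ := (IsPGroup.iff_orderOf.mp hDp) ⟨w, hw⟩
    exact ⟨k, by rw [← hk, Subgroup.orderOf_mk]⟩
  obtain ⟨xu, ⟨hxu, huc⟩, -⟩ := hXrep u (hord u hu)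
  obtain ⟨xv, ⟨hxv, hvc⟩, -⟩ := hXrep v (hord v hv)
  have hne : ∀ w xw : G, w ≠ 1 → IsConj w xw → xw ≠ 1 := by
    intro w xw hw hc h
    rw [h] at hc
    exact hw (isConj_one_right.mp hc.symm)
  have hpos : ∀ w xw : G, w ∈ D → IsConj w xw → 1 ≤ subT M p B xw := by
    intro w xw hw hc
    obtain ⟨c, hc⟩ := isConj_iff.mp hc
    have hD' := isDefectGroup_conj hD c
    refine one_le_subT hM hB hD' ?_
    rw [← hc]
    exact Subgroup.mem_map_of_mem _ hw
  by_contra hnc
  have hxne : xu ≠ xv := by
    rintro rfl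
    exact hnc (huc.trans hvc.symm)
  have h2 : ∑ x ∈ ({xu, xv} : Finset G), subT M p B x ≤ ∑ x ∈ X.erase 1, subT M p B x := by
    apply Finset.sum_le_sum_of_subset
    intro x hx
    simp only [Finset.mem_insert, Finset.mem_singleton] at hx
    rcases hx with rfl | rfl
    · exact Finset.mem_erase.mpr ⟨hne u _ hu1 huc, hxu⟩
    · exact Finset.mem_erase.mpr ⟨hne v _ hv1 hvc, hxv⟩
  rw [Finset.sum_pair hxne, hsum] at h2
  have := hpos u xu hu huc
  have := hpos v xv hv hvc
  omega

/-- If all nonidentity `p`-elements are conjugate to `u`, the count of `u` is `k(B) - l(B)`. -/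
theorem card_eq_add_subT (hM : IsPModular p M) {B : Set (IrrCharacter G)} (hB : IsPBlock M B) {u : G}
    (hu : ∃ k : ℕ, orderOf u = p ^ k) (hu1 : u ≠ 1)
    (hall : ∀ g : G, (∃ k : ℕ, orderOf g = p ^ k) → g ≠ 1 → IsConj g u) :
    Nat.card B = blockRank p B + subT M p B u := by
  classical
  have hc := card_eq_add hM hB ({1, u} : Finset G) (by simp) (by
    intro x hx
    simp only [Finset.mem_insert, Finset.mem_singleton] at hx
    rcases hx with rfl | rfl
    · exact ⟨0, by simp⟩
    · exact hu) (by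
    intro g hg
    by_cases hg1 : g = 1
    · subst hg1
      refine ⟨1, ⟨by simp, IsConj.refl _⟩, ?_⟩
      rintro y ⟨-, hy⟩
      exact isConj_one_right.mp hy
    · refine ⟨u, ⟨by simp, hall g hg hg1⟩, ?_⟩
      rintro y ⟨hy, hgy⟩
      simp only [Finset.mem_insert, Finset.mem_singleton] at hy
      rcases hy with rfl | rfl
      · exact absurd (isConj_one_left.mp hgy) hg1
      · rfl)
  have he : ({1, u} : Finset G).erase 1 = {u} := by
    ext x
    simp only [Finset.mem_erase, Finset.mem_insert, Finset.mem_singleton]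
    constructor
    · rintro ⟨h1, h2 | h2⟩
      · exact absurd h2 h1
      · exact h2
    · rintro rfl
      exact ⟨hu1, Or.inr rfl⟩
  rw [he, Finset.sum_singleton] at hc
  exact hc

end Cfsg.Agent.Lib.BlockOne.Count
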