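import Mathlib
import Cfsg.Agent.Lib.Transfer.Basic
import Cfsg.Agent.Lib.CAInv.CaseI
import Cfsg.Agent.Lib.SolvStruct.Fit
import Cfsg.Agent.Lib.Blocks.Third

/-!
# A Sylow subgroup with all nonidentity elements conjugate and `p`-nilpotent centralizers

If all the nonidentity elements of the Sylow `p`-subgroup `P` of `G` are conjugate in `G`, and the centralizers
of the nonidentity `p`-elements have normal `p`-complements, then `P` is elementary abelian.
-/

set_option autoImplicit false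
set_option linter.style.haveILetI false

namespace Cfsg.Agent.Lib.BlockOne.GroupPart

open Cfsg

universe u

variable {G : Type u} [Group G] [Finite G] {p : ℕ} [hp : Fact p.Prime]

/-- A `p'`-element normalizing `P` and fixing `x` centralizes the elements of `P` commuting with `x`. -/
theorem comm_of_fixed {P : Subgroup G} (hP : IsPGroup p P) {x c r : G}
    (hnil : HasNormalPComplement p (Subgroup.centralizer ({x} : Set G)))
    (hc : c ∈ Subgroup.normalizer (P : Set G)) (hcp : ¬ p ∣ orderOf c) (hcx : Commute c x)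
    (hr : r ∈ P) (hrx : Commute r x) : Commute c r := by
  obtain ⟨S, N, hNn, hNc⟩ := hnil
  have hpp : p.Prime := hp.out
  have hNp : ¬ p ∣ Nat.card N := by
    have h1 : (S : Subgroup (Subgroup.centralizer ({x} : Set G))).index = Nat.card N :=
      hNc.index_eq_card
    rw [← h1]
    exact S.not_dvd_index
  have hNi : ∃ k : ℕ, N.index = p ^ k := by
    have h1 : N.index = Nat.card S := hNc.symm.index_eq_card
    rw [h1]
    exact (IsPGroup.iff_card.mp S.2)
  obtain ⟨k, hk⟩ := hNi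
  let c' : Subgroup.centralizer ({x} : Set G) := ⟨c, Subgroup.mem_centralizer_singleton_iff.mpr hcx⟩
  let r' : Subgroup.centralizer ({x} : Set G) := ⟨r, Subgroup.mem_centralizer_singleton_iff.mpr hrx⟩
  have hcN : c' ∈ N := by
    have h1 : c' ^ N.index ∈ N := Subgroup.pow_index_mem N c'
    have hco : Nat.Coprime N.index (orderOf c') := by
      rw [hk, Subgroup.orderOf_mk]
      exact Nat.Coprime.pow_left k ((Nat.Prime.coprime_iff_not_dvd hpp).mpr hcp)
    obtain ⟨m, hm⟩ := exists_pow_eq_self_of_coprime hco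
    rw [← hm]
    exact N.pow_mem h1 m
  have hcomm : c' * r' * c'⁻¹ * r'⁻¹ ∈ N := by
    have h1 : r' * c'⁻¹ * r'⁻¹ ∈ N := hNn.conj_mem _ (N.inv_mem hcN) r'
    have h2 : c' * r' * c'⁻¹ * r'⁻¹ = c' * (r' * c'⁻¹ * r'⁻¹) := by group
    rw [h2]
    exact N.mul_mem hcN h1
  have hcP : c * r * c⁻¹ * r⁻¹ ∈ P := by
    have h1 : c * r * c⁻¹ ∈ P := (Subgroup.mem_normalizer_iff.mp hc r).mp hr
    exact P.mul_mem h1 (P.inv_mem hr)
  have h3 : c' * r' * c'⁻¹ * r'⁻¹ = 1 := by
    obtain ⟨j, hj⟩ := (IsPGroup.iff_orderOf.mp hP) ⟨_, hcP⟩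
    have h4 : orderOf (⟨_, hcomm⟩ : N) ∣ Nat.card N := orderOf_dvd_natCard _
    have h5 : orderOf (⟨_, hcomm⟩ : N) = p ^ j := by
      rw [← hj, Subgroup.orderOf_mk, Subgroup.orderOf_mk, Subgroup.orderOf_mk]
      rfl
    rw [h5] at h4
    have hj0 : j = 0 := by
      by_contra hne
      exact hNp ((dvd_pow_self p hne).trans h4)
    rw [hj0, pow_zero, orderOf_eq_one_iff] at h5
    exact congrArg Subtype.val h5
  have h4 : c * r * c⁻¹ * r⁻¹ = 1 := congrArg Subtype.val h3
  have h5 : c * r * c⁻¹ = r := mul_inv_eq_one.mp h4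
  exact mul_inv_eq_iff_eq_mul.mp h5

/-- A `p'`-element normalizing `P` and fixing a nonidentity element of `P` centralizes `P`. -/
theorem centralizes_of_fixed {P : Subgroup G} (hP : IsPGroup p P)
    (hnil : ∀ u ∈ P, u ≠ 1 → HasNormalPComplement p (Subgroup.centralizer ({u} : Set G)))
    {x c : G} (hc : c ∈ Subgroup.normalizer (P : Set G)) (hcp : ¬ p ∣ orderOf c) (hx : x ∈ P) (hx1 : x ≠ 1)
    (hcx : Commute c x) : ∀ r ∈ P, Commute c r := by
  classical
  by_contra hcon
  push Not at hcon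
  obtain ⟨r₀, hr₀, hr₀c⟩ := hcon
  haveI : Group.IsNilpotent P := hP.isNilpotent
  let C : Subgroup P := (Subgroup.centralizer ({c} : Set G)).subgroupOf P
  have hmemC : ∀ y : P, y ∈ C ↔ Commute c (y : G) := by
    intro y
    rw [Subgroup.mem_subgroupOf, Subgroup.mem_centralizer_singleton_iff]
    exact ⟨fun h => h.symm, fun h => h.symm⟩
  have hlt : C < ⊤ := by
    refine lt_top_iff_ne_top.mpr fun h => hr₀c ?_
    have : (⟨r₀, hr₀⟩ : P) ∈ C := by rw [h]; trivial
    exact (hmemC _).mp this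
  have hnc := Group.normalizerCondition_of_isNilpotent (G := P) C hlt
  obtain ⟨w, hw, hwC⟩ := SetLike.exists_of_lt hnc
  let S : Subgroup P := Subgroup.normalizer (C : Set P)
  haveI : Group.IsNilpotent S := inferInstance
  let N₁ : Subgroup S := C.subgroupOf S
  haveI : N₁.Normal := Subgroup.normal_in_normalizer
  have hCS : C ≤ S := Subgroup.le_normalizer
  have hxC : (⟨x, hx⟩ : P) ∈ C := (hmemC _).mpr hcx
  have hN₁ : N₁ ≠ ⊥ := by
    intro h
    have h1 : (⟨⟨x, hx⟩, hCS hxC⟩ : S) ∈ N₁ := Subgroup.mem_subgroupOf.mpr hxC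
    rw [h, Subgroup.mem_bot] at h1
    exact hx1 (congrArg (fun z : S => ((z : P) : G)) h1)
  obtain ⟨y, hy, hy1⟩ := Subgroup.ne_bot_iff_exists_ne_one.mp
    (Cfsg.Agent.Lib.SolvStruct.Fit.inf_center_ne_bot N₁ hN₁) |>.imp (fun y hy => hy)
    |> fun ⟨y, hy⟩ => (⟨y.1, y.2, fun e => hy (Subtype.ext e)⟩ :
      ∃ z : S, z ∈ N₁ ⊓ Subgroup.center S ∧ z ≠ 1)
  obtain ⟨hyN, hyZ⟩ := Subgroup.mem_inf.mp hy
  have hyC : (y : P) ∈ C := Subgroup.mem_subgroupOf.mp hyN
  have hyG : (((y : S) : P) : G) ≠ 1 := fun h => hy1 (Subtype.ext (Subtype.ext h))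
  have hcomm : Commute (w : G) (((y : S) : P) : G) := by
    have h1 := (Subgroup.mem_center_iff.mp hyZ) ⟨w, hw⟩
    have h2 := congrArg (fun z : S => ((z : P) : G)) h1
    exact h2
  have h3 := comm_of_fixed hP (hnil _ (y : P).2 hyG) hc hcp ((hmemC _).mp hyC) w.2 hcomm
  exact hwC ((hmemC w).mpr h3)

/-- A subgroup normalized up to inclusion is normalized. -/
theorem mem_normalizer_of_forall {P : Subgroup G} {n : G} (h : ∀ y ∈ P, n * y * n⁻¹ ∈ P) :
    n ∈ Subgroup.normalizer (P : Set G) := by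
  have h1 : P.map (MulAut.conj n).toMonoidHom ≤ P := by
    rintro _ ⟨y, hy, rfl⟩
    exact h y hy
  have h2 : P.map (MulAut.conj n).toMonoidHom = P := by
    apply Subgroup.eq_of_le_of_card_ge h1
    rw [Subgroup.card_map_of_injective (MulEquiv.injective _)]
  rw [Subgroup.mem_normalizer_iff]
  intro y
  refine ⟨h y, fun hy => ?_⟩
  rw [← h2] at hy
  obtain ⟨z, hz, hze⟩ := hy
  have hze' : n * z * n⁻¹ = n * y * n⁻¹ := hze
  have : z = y := by
    have h3 : n * z = n * y := mul_right_cancel hze'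
    exact mul_left_cancel h3
  rwa [← this]

/-- The Frattini step: the inverse of a central element is fused by a `p'`-element of the normalizer. -/
theorem exists_inverting (P : Sylow p G) {z : G}
    (hzc : ∀ r ∈ (P : Subgroup G), Commute r z) (hconj : IsConj z z⁻¹) :
    ∃ b : G, b ∈ Subgroup.normalizer ((P : Subgroup G) : Set G) ∧ ¬ p ∣ orderOf b ∧ b * z * b⁻¹ = z⁻¹ := by
  classical
  have hpp : p.Prime := hp.out
  obtain ⟨g, hg⟩ := isConj_iff.mp hconj
  let H : Subgroup G := Subgroup.centralizer ({z} : Set G)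
  have hPH : (P : Subgroup G) ≤ H := fun r hr =>
    Subgroup.mem_centralizer_singleton_iff.mpr (hzc r hr)
  have hgH : ∀ r : G, r ∈ H → g * r * g⁻¹ ∈ H := by
    intro r hr
    have hr' : r * z = z * r := Subgroup.mem_centralizer_singleton_iff.mp hr
    refine Subgroup.mem_centralizer_singleton_iff.mpr ?_
    have h1 : (g * r * g⁻¹) * (g * z * g⁻¹) = (g * z * g⁻¹) * (g * r * g⁻¹) := by
      calc (g * r * g⁻¹) * (g * z * g⁻¹) = g * (r * z) * g⁻¹ := by group
        _ = g * (z * r) * g⁻¹ := by rw [hr']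
        _ = _ := by group
    rw [hg] at h1
    have h2 : (g * r * g⁻¹) * z⁻¹ = z⁻¹ * (g * r * g⁻¹) := h1
    have h3 : z * ((g * r * g⁻¹) * z⁻¹) * z = z * (z⁻¹ * (g * r * g⁻¹)) * z := by rw [h2]
    simpa [mul_assoc] using h3.symm
  let P₂ : Sylow p G := g • P
  have hP₂ : (P₂ : Subgroup G) ≤ H := by
    intro x hx
    have hx' : x ∈ ((g • P : Sylow p G) : Subgroup G) := hx
    rw [Sylow.smul_def, Sylow.pointwise_smul_def] at hx'
    obtain ⟨y, hy, rfl⟩ := hx'
    exact hgH y (hPH hy)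
  have hg₂ : ∀ y ∈ (P : Subgroup G), g * y * g⁻¹ ∈ (P₂ : Subgroup G) := by
    intro y hy
    change g * y * g⁻¹ ∈ ((g • P : Sylow p G) : Subgroup G)
    rw [Sylow.smul_def, Sylow.pointwise_smul_def]
    exact ⟨y, hy, rfl⟩
  obtain ⟨h, hh⟩ := MulAction.exists_smul_eq H (P₂.subtype hP₂) (P.subtype hPH)
  have hhP : ∀ x ∈ (P₂ : Subgroup G), (h : G) * x * (h : G)⁻¹ ∈ (P : Subgroup G) := by
    intro x hx
    have h1 : (⟨x, hP₂ hx⟩ : H) ∈ ((P₂.subtype hP₂ : Sylow p H) : Subgroup H) := by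
      rw [Sylow.coe_subtype]
      exact Subgroup.mem_subgroupOf.mpr hx
    have h2 : h * (⟨x, hP₂ hx⟩ : H) * h⁻¹ ∈ ((h • P₂.subtype hP₂ : Sylow p H) : Subgroup H) := by
      rw [Sylow.smul_def, Sylow.pointwise_smul_def]
      exact ⟨_, h1, rfl⟩
    rw [hh, Sylow.coe_subtype] at h2
    exact Subgroup.mem_subgroupOf.mp h2
  let n : G := (h : G) * g
  have hnP : ∀ y ∈ (P : Subgroup G), n * y * n⁻¹ ∈ (P : Subgroup G) := by
    intro y hy
    have h1 := hhP _ (hg₂ y hy)
    have e : n * y * n⁻¹ = (h : G) * (g * y * g⁻¹) * (h : G)⁻¹ := by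
      simp only [n]
      group
    rw [e]
    exact h1
  have hnN := mem_normalizer_of_forall hnP
  have hhz : (h : G) * z = z * (h : G) := Subgroup.mem_centralizer_singleton_iff.mp h.2
  have hnz : n * z * n⁻¹ = z⁻¹ := by
    have e : n * z * n⁻¹ = (h : G) * (g * z * g⁻¹) * (h : G)⁻¹ := by
      simp only [n]
      group
    rw [e, hg]
    have h1 : (h : G) * z⁻¹ = z⁻¹ * (h : G) := by
      have h2 : Commute (h : G) z := hhz
      exact h2.inv_right.eq
    rw [h1]
    group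
  obtain ⟨a, b, hab, hcomm, ha, hb, ⟨k, hk⟩, hbo⟩ :=
    Cfsg.Agent.Lib.Transfer.Basic.exists_pPart_decomp (p := p) n
  have hzp : Subgroup.zpowers n ≤ Subgroup.normalizer ((P : Subgroup G) : Set G) :=
    Subgroup.zpowers_le.mpr hnN
  have haP : a ∈ (P : Subgroup G) :=
    Cfsg.Agent.Lib.Blocks.Third.mem_sylow_of_mem_normalizer P
      (Cfsg.Agent.Lib.Blocks.Third.orderOf_of_pow_eq_one hk) (hzp ha)
  have hazc : Commute a z := hzc a haP
  refine ⟨b, hzp hb, ?_, ?_⟩
  · intro hd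
    have h1 := Nat.Coprime.eq_one_of_dvd hbo.symm hd
    exact hpp.one_lt.ne' h1
  · rw [hab] at hnz
    have e : a * b * z * (a * b)⁻¹ = b * z * b⁻¹ := by
      have h1 : a * b = b * a := hcomm.eq
      rw [h1]
      calc b * a * z * (b * a)⁻¹ = b * (a * z) * a⁻¹ * b⁻¹ := by group
        _ = b * (z * a) * a⁻¹ * b⁻¹ := by rw [hazc.eq]
        _ = _ := by group
    rw [← e]
    exact hnz

/-- The main theorem. -/
theorem isElementaryAbelian_of_conj (P : Sylow p G)
    (hconj : ∀ u ∈ (P : Subgroup G), ∀ v ∈ (P : Subgroup G), u ≠ 1 → v ≠ 1 → IsConj u v)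
    (hnil : ∀ u ∈ (P : Subgroup G), u ≠ 1 → HasNormalPComplement p (Subgroup.centralizer ({u} : Set G))) :
    IsElementaryAbelian p (P : Subgroup G) := by
  classical
  have hpp : p.Prime := hp.out
  have hPp : IsPGroup p (P : Subgroup G) := P.2
  -- the exponent
  have hexp : ∀ a ∈ (P : Subgroup G), a ^ p = 1 := by
    intro a ha
    by_cases ha1 : a = 1
    · rw [ha1, one_pow]
    have hnt : Nontrivial (P : Subgroup G) :=
      ⟨⟨⟨a, ha⟩, 1, fun h => ha1 (congrArg Subtype.val h)⟩⟩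
    have hd : p ∣ Nat.card (P : Subgroup G) := by
      obtain ⟨n, hn⟩ := IsPGroup.iff_card.mp hPp
      have hn0 : n ≠ 0 := by
        rintro rfl
        rw [pow_zero] at hn
        exact (Finite.one_lt_card (α := (P : Subgroup G))).ne' hn
      rw [hn]
      exact dvd_pow_self p hn0
    obtain ⟨b, hb⟩ := exists_prime_orderOf_dvd_card' (G := (P : Subgroup G)) p hd
    have hb1 : (b : G) ≠ 1 := by
      intro h
      have h1 : b = 1 := Subtype.ext h
      rw [h1, orderOf_one] at hb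
      exact hpp.one_lt.ne hb
    have hab := hconj a ha b b.2 ha1 hb1
    obtain ⟨c, hc⟩ := isConj_iff.mp hab
    have hb' : (b : G) ^ p = 1 := by
      have h2 : b ^ p = 1 := orderOf_dvd_iff_pow_eq_one.mp (dvd_of_eq hb)
      exact congrArg Subtype.val h2
    have h3 : (c * a * c⁻¹) ^ p = 1 := by rw [hc, hb']
    rw [conj_pow] at h3
    have h4 := congrArg (fun w => c⁻¹ * w * c) h3
    simpa [mul_assoc] using h4
  refine ⟨⟨⟨fun a b => ?_⟩⟩, hexp⟩
  by_cases hodd : p = 2
  · subst hodd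
    have hsq : ∀ x : (P : Subgroup G), x * x = 1 := by
      intro x
      have h1 := hexp x x.2
      apply Subtype.ext
      simpa [sq] using h1
    have h1 := hsq (a * b)
    have h2 := hsq a
    have h3 := hsq b
    calc a * b = a * b * (b * a * (b * a)) := by rw [hsq (b * a), mul_one]
      _ = a * (b * b) * a * (b * a) := by group
      _ = a * a * (b * a) := by rw [h3, mul_one]
      _ = b * a := by rw [h2, one_mul]
  -- `p` odd
  by_cases hbot : ∀ x : (P : Subgroup G), x = 1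
  · rw [hbot a, hbot b]
  push Not at hbot
  obtain ⟨x₀, hx₀⟩ := hbot
  haveI hnt : Nontrivial (P : Subgroup G) := ⟨⟨x₀, 1, hx₀⟩⟩
  haveI hcnt := hPp.center_nontrivial
  obtain ⟨⟨z₀, hz₀c⟩, hz₀1⟩ := exists_ne (1 : Subgroup.center (P : Subgroup G))
  set z : G := (z₀ : G) with hz
  have hzP : z ∈ (P : Subgroup G) := z₀.2
  have hz1 : z ≠ 1 := fun h => hz₀1 (Subtype.ext (Subtype.ext h))
  have hzinv1 : z⁻¹ ≠ 1 := fun h => hz1 (inv_eq_one.mp h)
  have hzc : ∀ r ∈ (P : Subgroup G), Commute r z := by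
    intro r hr
    have h1 := (Subgroup.mem_center_iff.mp hz₀c) ⟨r, hr⟩
    exact congrArg Subtype.val h1
  obtain ⟨c, hcN, hcp, hcz⟩ := exists_inverting P hzc
    (hconj z hzP z⁻¹ ((P : Subgroup G).inv_mem hzP) hz1 hzinv1)
  have hc2 : ∀ r ∈ (P : Subgroup G), Commute (c * c) r := by
    refine centralizes_of_fixed hPp hnil (x := z) (Subgroup.mul_mem _ hcN hcN) ?_ hzP hz1 ?_
    · intro hd
      apply hcp
      have h1 : orderOf (c * c) ∣ orderOf c := by
        rw [← sq]
        exact orderOf_pow_dvd _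
      exact hd.trans h1
    · have h1 : c * z⁻¹ * c⁻¹ = z := by
        have h2 : c * z⁻¹ * c⁻¹ = (c * z * c⁻¹)⁻¹ := by group
        rw [h2, hcz, inv_inv]
      have h2 : (c * c) * z * (c * c)⁻¹ = z := by
        calc (c * c) * z * (c * c)⁻¹ = c * (c * z * c⁻¹) * c⁻¹ := by group
          _ = z := by rw [hcz, h1]
      exact mul_inv_eq_iff_eq_mul.mp h2
  have hconjc : ∀ x ∈ (P : Subgroup G), c * x * c⁻¹ ∈ (P : Subgroup G) := fun x hx =>
    (Subgroup.mem_normalizer_iff.mp hcN x).mp hx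
  let σ : ↥(P : Subgroup G) → ↥(P : Subgroup G) := fun x => ⟨c * x * c⁻¹, hconjc x x.2⟩
  have hm : ∀ x y, σ (x * y) = σ x * σ y := by
    intro x y
    apply Subtype.ext
    change c * ((x : G) * (y : G)) * c⁻¹ = (c * x * c⁻¹) * (c * y * c⁻¹)
    group
  have hσ : ∀ x, σ (σ x) = x := by
    intro x
    apply Subtype.ext
    change c * (c * (x : G) * c⁻¹) * c⁻¹ = x
    have h1 := (hc2 x x.2).eq
    have h2 : (c * c) * (x : G) * (c * c)⁻¹ = x := by rw [h1]; group
    calc c * (c * (x : G) * c⁻¹) * c⁻¹ = (c * c) * (x : G) * (c * c)⁻¹ := by group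
      _ = x := h2
  have hfix : ∀ x, σ x = x → x = 1 := by
    intro x hx
    by_contra hx1
    have hx' : c * (x : G) * c⁻¹ = x := congrArg Subtype.val hx
    have hcx : Commute c (x : G) := mul_inv_eq_iff_eq_mul.mp hx'
    have hall := centralizes_of_fixed hPp hnil hcN hcp x.2
      (fun h => hx1 (Subtype.ext h)) hcx
    have h1 : c * z * c⁻¹ = z := by rw [(hall z hzP).eq]; group
    rw [h1] at hcz
    have h2 : z ^ 2 = 1 := by
      rw [sq]
      nth_rw 1 [hcz]
      exact inv_mul_cancel z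
    obtain ⟨k, hk⟩ := (IsPGroup.iff_orderOf.mp hPp) ⟨z, hzP⟩
    rw [Subgroup.orderOf_mk] at hk
    have h3 : orderOf z ∣ 2 := orderOf_dvd_of_pow_eq_one h2
    rw [hk] at h3
    rcases Nat.eq_zero_or_pos k with h0 | hpos
    · rw [h0, pow_zero] at hk
      exact hz1 (orderOf_eq_one_iff.mp hk)
    · have h4 : p ∣ 2 := (dvd_pow_self p hpos.ne').trans h3
      exact hodd ((Nat.prime_dvd_prime_iff_eq hpp Nat.prime_two).mp h4)
  have hinv := Cfsg.Agent.Lib.CAInv.CaseI.invert_of_fpf σ hm hσ hfix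
  have h := hm a b
  rw [hinv, hinv, hinv] at h
  have h2 := congrArg Inv.inv h
  simpa using h2

end Cfsg.Agent.Lib.BlockOne.GroupPart
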