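import Mathlib
import Cfsg.Agent.Lib.BlockOne.GroupPart
import Cfsg.Agent.Lib.Core.PSolvable
import Cfsg.Agent.Lib.Core.Series
import Cfsg.Agent.Lib.SelfCent.CoreLemmas

/-!
# A `p`-solvable group in which all nonidentity elements of a Sylow `p`-subgroup are conjugate

The Sylow `p`-subgroup is elementary abelian.
-/

set_option autoImplicit false
set_option linter.style.haveILetI false

namespace Cfsg.Agent.Lib.BlockOne.PSolvGroup

open Cfsg

universe u

variable {G : Type u} [Group G] [Finite G] {p : ℕ} [hp : Fact p.Prime]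

/-- The exponent. -/
theorem pow_eq_one_of_conj (P : Sylow p G)
    (hconj : ∀ u ∈ (P : Subgroup G), ∀ v ∈ (P : Subgroup G), u ≠ 1 → v ≠ 1 → IsConj u v) :
    ∀ a ∈ (P : Subgroup G), a ^ p = 1 := by
  have hpp : p.Prime := hp.out
  have hPp : IsPGroup p (P : Subgroup G) := P.2
  intro a ha
  by_cases ha1 : a = 1
  · rw [ha1, one_pow]
  have hnt : Nontrivial (P : Subgroup G) :=
    ⟨⟨⟨a, ha⟩, 1, fun h => ha1 (congrArg Subtype.val h)⟩⟩
  have hd : p ∣ Nat.card (P : Subgroup G) := by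
    obtain ⟨n, hn⟩ := IsPGroup.iff_card.mp hPp
    have hn0 : n ≠ 0 := by
      rintro rfl
      rw [pow_zero] at hn
      exact (Finite.one_lt_card (α := (P : Subgroup G))).ne' hn
    rw [hn]
    exact dvd_pow_self p hn0
  obtain ⟨b, hb⟩ := exists_prime_orderOf_dvd_card' (G := (P : Subgroup G)) p hd
  have hb1 : (b : G) ≠ 1 := by
    intro h
    have h1 : b = 1 := Subtype.ext h
    rw [h1, orderOf_one] at hb
    exact hpp.one_lt.ne hb
  have hab := hconj a ha b b.2 ha1 hb1
  obtain ⟨c, hc⟩ := isConj_iff.mp hab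
  have hb' : (b : G) ^ p = 1 := by
    have h2 : b ^ p = 1 := orderOf_dvd_iff_pow_eq_one.mp (dvd_of_eq hb)
    exact congrArg Subtype.val h2
  have h3 : (c * a * c⁻¹) ^ p = 1 := by rw [hc, hb']
  rw [conj_pow] at h3
  have h4 := congrArg (fun w => c⁻¹ * w * c) h3
  simpa [mul_assoc] using h4

/-- The main group-theoretic statement. -/
theorem isElementaryAbelian_of_isPSolvable (hG : IsPSolvable p G) (P : Sylow p G)
    (hconj : ∀ u ∈ (P : Subgroup G), ∀ v ∈ (P : Subgroup G), u ≠ 1 → v ≠ 1 → IsConj u v) :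
    IsElementaryAbelian p (P : Subgroup G) := by
  classical
  have hpp : p.Prime := hp.out
  have hPp : IsPGroup p (P : Subgroup G) := P.2
  refine ⟨?_, pow_eq_one_of_conj P hconj⟩
  by_cases hbot : ∀ x : (P : Subgroup G), x = 1
  · exact ⟨⟨fun a b => by rw [hbot a, hbot b]⟩⟩
  push Not at hbot
  obtain ⟨x₀, hx₀⟩ := hbot
  haveI hnt : Nontrivial (P : Subgroup G) := ⟨⟨x₀, 1, hx₀⟩⟩
  set K := pPrimeCore p G with hKdef
  set L := pPrimePCore p G with hLdef
  haveI hKn : K.Normal := inferInstance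
  haveI hLn : L.Normal := inferInstance
  have hKp : ¬ p ∣ Nat.card K := by
    have h1 := Cfsg.Agent.Lib.SelfCent.CoreLemmas.pPrimeCore_coprime (G := G) p
    exact (Nat.Prime.coprime_iff_not_dvd hpp).mp h1.symm
  have hKL : K ≤ L := Cfsg.Agent.Lib.Core.Series.pPrimeCore_le_pPrimePCore
  have hLp : ∀ l ∈ L, ∃ k : ℕ, l ^ (p ^ k) ∈ K := fun l hl =>
    Cfsg.Agent.Lib.Core.Series.exists_pow_mem_pPrimeCore hl
  -- a nonidentity element of `P` in `L`
  obtain ⟨Q⟩ : Nonempty (Sylow p L) := inferInstance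
  have hC := Cfsg.Agent.Lib.Core.PSolvable.isPConstrained_of_isPSolvable hG Q
  have hex : ∃ u₀ ∈ (P : Subgroup G), u₀ ∈ L ∧ u₀ ≠ 1 := by
    by_cases hQ : ∀ q ∈ (Q : Subgroup L), q = 1
    · exfalso
      -- then `L = G`
      have hQb : (Q : Subgroup L).map L.subtype = ⊥ := by
        rw [Subgroup.map_eq_bot_iff, Subgroup.ker_subtype, le_bot_iff]
        exact (Subgroup.eq_bot_iff_forall _).mpr hQ
      rw [hQb] at hC
      have hLtop : L = ⊤ := by
        rw [eq_top_iff]
        intro g _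
        apply hC
        simp [Subgroup.mem_centralizer_iff]
      have hd : p ∣ Nat.card L := by
        rw [hLtop, Subgroup.card_top]
        obtain ⟨n, hn⟩ := IsPGroup.iff_card.mp hPp
        have hn0 : n ≠ 0 := by
          rintro rfl
          rw [pow_zero] at hn
          exact (Finite.one_lt_card (α := (P : Subgroup G))).ne' hn
        refine dvd_trans (dvd_pow_self p hn0) ?_
        rw [← hn]
        exact Subgroup.card_subgroup_dvd_card _
      have hQc : ¬ p ∣ (Q : Subgroup L).index := Q.not_dvd_index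
      apply hQc
      have hQb' : (Q : Subgroup L) = ⊥ := (Subgroup.eq_bot_iff_forall _).mpr hQ
      rw [hQb', Subgroup.index_bot]
      exact hd
    · push Not at hQ
      obtain ⟨q, hq, hq1⟩ := hQ
      have hqG : (q : G) ≠ 1 := fun h => hq1 (Subtype.ext h)
      obtain ⟨k, hk⟩ := (IsPGroup.iff_orderOf.mp Q.2) ⟨q, hq⟩
      rw [Subgroup.orderOf_mk, ← Subgroup.orderOf_coe] at hk
      have hZ : IsPGroup p (Subgroup.zpowers (q : G)) := by
        rw [IsPGroup.iff_card]
        exact ⟨k, by rw [Nat.card_zpowers, hk]⟩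
      obtain ⟨Q', hQ'⟩ := hZ.exists_le_sylow
      obtain ⟨h, hh⟩ := MulAction.exists_smul_eq G Q' P
      refine ⟨h * q * h⁻¹, ?_, hLn.conj_mem _ q.2 h, ?_⟩
      · rw [← hh, Sylow.smul_def, Sylow.pointwise_smul_def]
        exact ⟨q, hQ' (Subgroup.mem_zpowers (q : G)), rfl⟩
      · intro h2
        apply hqG
        have h3 := congrArg (fun w => h⁻¹ * w * h) h2
        simpa [mul_assoc] using h3
  obtain ⟨u₀, hu₀P, hu₀L, hu₀1⟩ := hex
  -- `P ≤ L`
  have hPL : (P : Subgroup G) ≤ L := by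
    intro u hu
    by_cases hu1 : u = 1
    · rw [hu1]
      exact L.one_mem
    obtain ⟨c, hc⟩ := isConj_iff.mp (hconj u₀ hu₀P u hu hu₀1 hu1)
    rw [← hc]
    exact hLn.conj_mem _ hu₀L c
  -- `L = K P`
  have hLQ : L ≤ K ⊔ (P : Subgroup G) := by
    have hpg : IsPGroup p (L ⧸ K.subgroupOf L) := by
      intro q
      obtain ⟨⟨a, ha⟩, rfl⟩ := QuotientGroup.mk_surjective q
      obtain ⟨k, hk⟩ := hLp a ha
      refine ⟨k, ?_⟩
      rw [← QuotientGroup.mk_pow, QuotientGroup.eq_one_iff, Subgroup.mem_subgroupOf]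
      simpa using hk
    obtain ⟨n, hn⟩ := IsPGroup.iff_card.mp hpg
    have h1 : K.relIndex L = p ^ n := by
      rw [Subgroup.relIndex, Subgroup.index, hn]
    have h2 : (K ⊔ (P : Subgroup G)).relIndex L ∣ K.relIndex L :=
      Subgroup.relIndex_dvd_of_le_left L le_sup_left
    have h3 : (K ⊔ (P : Subgroup G)).relIndex L ∣ (P : Subgroup G).relIndex L :=
      Subgroup.relIndex_dvd_of_le_left L le_sup_right
    rw [h1] at h2
    have hQS : ¬ p ∣ (P : Subgroup G).relIndex L := by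
      intro hd
      apply P.not_dvd_index
      rw [← Subgroup.relIndex_mul_index hPL]
      exact hd.mul_right _
    obtain ⟨j, -, hj⟩ := (Nat.dvd_prime_pow hpp).mp h2
    have hj0 : j = 0 := by
      by_contra hne
      apply hQS
      refine dvd_trans ?_ h3
      rw [hj]
      exact dvd_pow_self p hne
    rw [hj0, pow_zero] at hj
    exact Subgroup.relIndex_eq_one.mp hj
  have hKP : ∀ a ∈ K, a ∈ (P : Subgroup G) → a = 1 := by
    intro a haK haQ
    obtain ⟨k, hk⟩ := hPp ⟨a, haQ⟩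
    have h1 : a ^ p ^ k = 1 := congrArg Subtype.val hk
    have h2 : orderOf a ∣ p ^ k := orderOf_dvd_of_pow_eq_one h1
    have h3 : orderOf (⟨a, haK⟩ : K) ∣ Nat.card K := orderOf_dvd_natCard _
    rw [Subgroup.orderOf_mk] at h3
    have h4 : Nat.Coprime (p ^ k) (Nat.card K) :=
      Nat.Coprime.pow_left k ((Nat.Prime.coprime_iff_not_dvd hpp).mpr hKp)
    have h5 := Nat.Coprime.eq_one_of_dvd (Nat.Coprime.coprime_dvd_left h2 h4) h3
    exact orderOf_eq_one_iff.mp h5
  -- a central element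
  haveI hcnt := hPp.center_nontrivial
  obtain ⟨⟨z₀, hz₀c⟩, hz₀1⟩ := exists_ne (1 : Subgroup.center (P : Subgroup G))
  set z : G := (z₀ : G) with hz
  have hzP : z ∈ (P : Subgroup G) := z₀.2
  have hz1 : z ≠ 1 := fun h => hz₀1 (Subtype.ext (Subtype.ext h))
  have hzc : ∀ r ∈ (P : Subgroup G), Commute r z := by
    intro r hr
    have h1 := (Subgroup.mem_center_iff.mp hz₀c) ⟨r, hr⟩
    exact congrArg Subtype.val h1
  -- all the elements are central
  have hcentral : ∀ u ∈ (P : Subgroup G), ∀ d ∈ (P : Subgroup G), Commute u d := by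
    intro u hu d hd
    by_cases hu1 : u = 1
    · rw [hu1]
      exact Commute.one_left d
    obtain ⟨g, hg⟩ := isConj_iff.mp (hconj z hzP u hu hz1 hu1)
    have heL : g⁻¹ * d * g ∈ K ⊔ (P : Subgroup G) := by
      apply hLQ
      have := hLn.conj_mem d (hPL hd) g⁻¹
      simpa using this
    rw [← SetLike.mem_coe, Subgroup.normal_mul] at heL
    obtain ⟨k, hk, d', hd', he⟩ := heL
    have hk' : g⁻¹ * d * g = k * d' := he.symm
    have h1 : z * (k * d') * z⁻¹ * (k * d')⁻¹ ∈ K := by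
      have h2 : z * (k * d') * z⁻¹ * (k * d')⁻¹ = (z * k * z⁻¹) * k⁻¹ := by
        have h3 : d' * z⁻¹ = z⁻¹ * d' := ((hzc d' hd').inv_right).eq
        calc z * (k * d') * z⁻¹ * (k * d')⁻¹ = z * k * (d' * z⁻¹) * d'⁻¹ * k⁻¹ := by group
          _ = z * k * (z⁻¹ * d') * d'⁻¹ * k⁻¹ := by rw [h3]
          _ = _ := by group
      rw [h2]
      exact K.mul_mem (hKn.conj_mem k hk z) (K.inv_mem hk)
    rw [← hk'] at h1
    have h2 : u * d * u⁻¹ * d⁻¹ ∈ K := by
      have h3 := hKn.conj_mem _ h1 g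
      have h4 : g * (z * (g⁻¹ * d * g) * z⁻¹ * (g⁻¹ * d * g)⁻¹) * g⁻¹ = u * d * u⁻¹ * d⁻¹ := by
        rw [← hg]
        group
      rwa [h4] at h3
    have h3 : u * d * u⁻¹ * d⁻¹ ∈ (P : Subgroup G) :=
      Subgroup.mul_mem _ (Subgroup.mul_mem _ (Subgroup.mul_mem _ hu hd) (Subgroup.inv_mem _ hu))
        (Subgroup.inv_mem _ hd)
    have h4 := hKP _ h2 h3
    have h5 : u * d * u⁻¹ = d := mul_inv_eq_one.mp h4
    exact mul_inv_eq_iff_eq_mul.mp h5
  exact ⟨⟨fun a b => Subtype.ext (hcentral a a.2 b b.2)⟩⟩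

end Cfsg.Agent.Lib.BlockOne.PSolvGroup
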