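import Mathlib
import Cfsg.Agent.Lib.Blocks.FR2
import Cfsg.Agent.Lib.BlockH.Regular

/-!
# The Fong-Reynolds correspondence preserves the number of characters and the rank of a block
-/

set_option linter.unusedSectionVars false
set_option autoImplicit false
set_option linter.style.haveILetI false

namespace Cfsg.Agent.Lib.BlockOne.RankFR

open Cfsg MonoidAlgebra
open Cfsg.Agent.Lib.Blocks.Local Cfsg.Agent.Lib.Blocks.Central Cfsg.Agent.Lib.Blocks.Brauer
open Cfsg.Agent.Lib.Blocks.Induced Cfsg.Agent.Lib.Blocks.Heights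
open Cfsg.Agent.Lib.Char.Basic Cfsg.Agent.Lib.Char.Ortho Cfsg.Agent.Lib.Char.Complete
open Cfsg.Agent.Lib.Char.Induced Cfsg.Agent.Lib.Char.IndRep Cfsg.Agent.Lib.Char.Clifford
open Cfsg.Agent.Lib.BlockH.MaxPair Cfsg.Agent.Lib.BlockH.StabBlock Cfsg.Agent.Lib.BlockH.Regular
open Cfsg.Agent.Lib.BlockT.Normal Cfsg.Agent.Lib.Blocks.FR
open scoped ComplexConjugate

universe u

variable {G : Type u} [Group G] [Fintype G] {T : Subgroup G} [Fintype T]
  [Fintype (IrrCharacter G)] [Fintype (IrrCharacter T)] {E : Subalgebra.center ℂ (GA T)}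
  {M : Ideal AlgInt} [hMp : M.IsPrime] {p : ℕ}
  (horth : ∀ x : G, x ∉ T → ∀ ψ : IrrCharacter T, omegaHom ψ E = 1 →
    ∑ t : T, (incl T (E : GA T)).coeff (x * t * x⁻¹) * (ψ : T → ℂ) t = 0)

include horth

theorem classInner_reg_ind (hM : IsPModular p M) (hEl : E ∈ localCenter M T) (hEE : E * E = E)
    {ψ : IrrCharacter T} (hψ : omegaHom ψ E = 1) :
    classInner (pRegularPart p (indFun T (ψ : T → ℂ))) (indFun T (ψ : T → ℂ)) =
      classInner (pRegularPart p (ψ : T → ℂ)) (ψ : T → ℂ) := by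
  classical
  let R : T → ℂ := fun t => indFun T (ψ : T → ℂ) t
  have hRcl : IsClassFunction T R := by
    intro g h
    exact isClassFunction_indFun T _ (g : G) (h : G)
  set F := pRegularPart p (indFun T (ψ : T → ℂ)) with hF
  have hFcl : IsClassFunction G F := isClassFunction_pRegularPart p (isClassFunction_indFun T _)
  have h1 : classInner F (indFun T (ψ : T → ℂ)) = classInner (fun t : T => F t) (ψ : T → ℂ) := by
    have h2 := classInner_indFun_left T (ψ : T → ℂ) F hFcl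
    have h3 := congrArg conj h2
    rwa [classInner_conj, classInner_conj] at h3
  have hFT : (fun t : T => F t) = pRegularPart p R := by
    funext t
    simp only [hF, pRegularPart_apply, R, IsPRegular, Subgroup.orderOf_coe]
    by_cases ht : p ∣ orderOf t <;> simp [ht]
  have hexp := classFunction_eq_sum hRcl
  have hreg : pRegularPart p R = ∑ ψ' : IrrCharacter T, classInner R ψ' • pRegularPart p (ψ' : T → ℂ) := by
    funext t
    have h2 := congrFun hexp t
    simp only [Finset.sum_apply, Pi.smul_apply, smul_eq_mul] at h2 ⊢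
    rw [pRegularPart_apply]
    split_ifs with ht
    · rw [h2]
      refine Fintype.sum_congr _ _ fun ψ' => ?_
      rw [pRegularPart_apply, if_pos ht]
    · symm
      apply Finset.sum_eq_zero
      intro ψ' _
      rw [pRegularPart_apply, if_neg ht, mul_zero]
  rw [h1, hFT, hreg]
  have key : ∀ c : IrrCharacter T → ℂ, classInner (∑ ψ' : IrrCharacter T, c ψ' • pRegularPart p (ψ' : T → ℂ)) (ψ : T → ℂ) =
      ∑ ψ' : IrrCharacter T, c ψ' * classInner (pRegularPart p (ψ' : T → ℂ)) (ψ : T → ℂ) := by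
    intro c
    simp only [classInner, Finset.sum_apply, Pi.smul_apply, smul_eq_mul, Finset.sum_mul]
    rw [Finset.sum_comm, Finset.mul_sum]
    refine Fintype.sum_congr _ _ fun ψ' => ?_
    rw [Finset.mul_sum, Finset.mul_sum, Finset.mul_sum]
    refine Finset.sum_congr rfl fun t _ => ?_
    ring
  have h2 := key (fun ψ' => classInner R (ψ' : T → ℂ))
  rw [h2]
  rw [Finset.sum_eq_single ψ]
  · have h3 : classInner R (ψ : T → ℂ) = 1 := by
      have h4 := classInner_indFun_left T (ψ : T → ℂ) (indFun T (ψ : T → ℂ)) (isClassFunction_indFun T _)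
      rw [classInner_self_of_isIrr (isIrr_indFun horth hEE hψ)] at h4
      have h5 := congrArg conj h4
      rw [classInner_conj, map_one] at h5
      exact h5.symm
    rw [h3, one_mul]
  · intro ψ' _ hne
    by_cases hs : SameBlock M (ψ : T → ℂ) (ψ' : T → ℂ)
    · have hψ' := I_of_sameBlock hEl hEE hs hψ
      have h3 : classInner R (ψ' : T → ℂ) = 0 := by
        by_contra h4
        exact hne (unique_over horth hEE hψ hψ' h4)
      rw [h3, zero_mul]
    · have h3 : ¬ SameBlock M (ψ' : T → ℂ) (ψ : T → ℂ) := fun h => hs (sameBlock_symm h)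
      rw [classInner_pRegularPart_eq_zero hM h3, mul_zero]
  · intro h
    exact absurd (Finset.mem_univ _) h

omit horth in
/-- The rank as a sum of inner products. -/
theorem rank_eq_sum {K : Type u} [Group K] [Fintype K] [Fintype (IrrCharacter K)] (hM : IsPModular p M)
    {B : Set (IrrCharacter K)} [DecidablePred (· ∈ B)] (hB : IsPBlock M B) :
    (blockRank p B : ℂ) = ∑ χ : IrrCharacter K,
      if χ ∈ B then classInner (pRegularPart p (χ : K → ℂ)) (χ : K → ℂ) else 0 := by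
  rw [card_mul_blockRank hM hB, Finset.sum_comm, Finset.mul_sum]
  refine Fintype.sum_congr _ _ fun χ => ?_
  split_ifs
  · rfl
  · simp

theorem blockRank_ind (hM : IsPModular p M) (hEl : E ∈ localCenter M T) (hEE : E * E = E)
    {ψ₀ : IrrCharacter T} (hψ₀ : omegaHom ψ₀ E = 1) :
    blockRank p (blockOf M (indFun T (ψ₀ : T → ℂ))) = blockRank p (blockOf M (ψ₀ : T → ℂ)) := by
  classical
  letI : Fintype (G ⧸ T) := Fintype.ofFinite _
  have hirr := isIrr_indFun horth hEE hψ₀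
  apply Nat.cast_injective (R := ℂ)
  have hB : IsPBlock M (blockOf M (indFun T (ψ₀ : T → ℂ))) := ⟨⟨_, hirr⟩, rfl⟩
  have hB' : IsPBlock M (blockOf M (ψ₀ : T → ℂ)) := ⟨ψ₀, rfl⟩
  rw [rank_eq_sum hM hB, rank_eq_sum hM hB', ← Finset.sum_filter, ← Finset.sum_filter]
  symm
  have hω : ∀ ψ ∈ Finset.univ.filter (fun ψ : IrrCharacter T => ψ ∈ blockOf M (ψ₀ : T → ℂ)),
      omegaHom ψ E = 1 := by
    intro ψ hψ
    have hψ' : ψ ∈ blockOf M (ψ₀ : T → ℂ) := (Finset.mem_filter.mp hψ).2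
    exact I_of_sameBlock hEl hEE hψ' hψ₀
  refine Finset.sum_bij (fun ψ hψ => ⟨indFun T (ψ : T → ℂ), isIrr_indFun horth hEE (hω ψ hψ)⟩)
    ?_ ?_ ?_ ?_
  · intro ψ hψ
    refine Finset.mem_filter.mpr ⟨Finset.mem_univ _, ?_⟩
    exact (mem_blockOf_ind_iff horth hEl hEE hψ₀ _).mpr ⟨ψ, (Finset.mem_filter.mp hψ).2, rfl⟩
  · intro ψ₁ h₁ ψ₂ h₂ h
    have h3 : indFun T (ψ₁ : T → ℂ) = indFun T (ψ₂ : T → ℂ) := congrArg Subtype.val h
    exact (indFun_injective horth hEE (hω ψ₁ h₁) (hω ψ₂ h₂) h3).symm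
  · intro χ hχ
    obtain ⟨ψ, hψ, he⟩ := (mem_blockOf_ind_iff horth hEl hEE hψ₀ χ).mp (Finset.mem_filter.mp hχ).2
    exact ⟨ψ, Finset.mem_filter.mpr ⟨Finset.mem_univ _, hψ⟩, Subtype.ext he.symm⟩
  · intro ψ hψ
    exact (classInner_reg_ind horth hM hEl hEE (hω ψ hψ)).symm

theorem card_ind (hEl : E ∈ localCenter M T) (hEE : E * E = E)
    {ψ₀ : IrrCharacter T} (hψ₀ : omegaHom ψ₀ E = 1) :
    Nat.card (blockOf M (indFun T (ψ₀ : T → ℂ))) = Nat.card (blockOf M (ψ₀ : T → ℂ)) := by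
  classical
  letI : Fintype (G ⧸ T) := Fintype.ofFinite _
  have hω : ∀ ψ ∈ blockOf M (ψ₀ : T → ℂ), omegaHom ψ E = 1 := fun ψ hψ =>
    I_of_sameBlock hEl hEE hψ hψ₀
  symm
  refine Nat.card_eq_of_bijective (fun ψ : blockOf M (ψ₀ : T → ℂ) =>
    ⟨⟨indFun T ((ψ : IrrCharacter T) : T → ℂ), isIrr_indFun horth hEE (hω ψ ψ.2)⟩,
      (mem_blockOf_ind_iff horth hEl hEE hψ₀ _).mpr ⟨ψ, ψ.2, rfl⟩⟩) ⟨?_, ?_⟩
  · intro ψ₁ ψ₂ h
    have h3 : indFun T ((ψ₁ : IrrCharacter T) : T → ℂ) = indFun T ((ψ₂ : IrrCharacter T) : T → ℂ) :=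
      congrArg (fun χ : blockOf M (indFun T (ψ₀ : T → ℂ)) => ((χ : IrrCharacter G) : G → ℂ)) h
    exact Subtype.ext (indFun_injective horth hEE (hω ψ₁ ψ₁.2) (hω ψ₂ ψ₂.2) h3).symm
  · rintro ⟨χ, hχ⟩
    obtain ⟨ψ, hψ, he⟩ := (mem_blockOf_ind_iff horth hEl hEE hψ₀ χ).mp hχ
    exact ⟨⟨ψ, hψ⟩, Subtype.ext (Subtype.ext he.symm)⟩

end Cfsg.Agent.Lib.BlockOne.RankFR
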