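import Mathlib
import Cfsg.Agent.Lib.BlockOne.Count
import Cfsg.Agent.Lib.BlockOne.RankFR
import Cfsg.Agent.Lib.BlockOne.PSolvGroup
import Cfsg.Agent.Lib.CharTriple.Fong

/-!
# A block of a `p`-solvable group with `k(B) = l(B) + 1`
-/

set_option linter.unusedSectionVars false
set_option autoImplicit false
set_option linter.style.haveILetI false

namespace Cfsg.Agent.Lib.BlockOne.PSolv

open Cfsg MonoidAlgebra
open Cfsg.Agent.Lib.Blocks.Local Cfsg.Agent.Lib.Blocks.Central Cfsg.Agent.Lib.Blocks.Brauer
open Cfsg.Agent.Lib.Blocks.Induced Cfsg.Agent.Lib.Blocks.Heights Cfsg.Agent.Lib.Blocks.Main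
open Cfsg.Agent.Lib.Char.Basic Cfsg.Agent.Lib.Char.Ortho Cfsg.Agent.Lib.Char.Complete
open Cfsg.Agent.Lib.Char.Induced Cfsg.Agent.Lib.Char.IndRep Cfsg.Agent.Lib.Char.Clifford
open Cfsg.Agent.Lib.Char.Conj Cfsg.Agent.Lib.Char.CliffordCorr
open Cfsg.Agent.Lib.BlockT.Normal Cfsg.Agent.Lib.Blocks.FR Cfsg.Agent.Lib.Blocks.FR2
open Cfsg.Agent.Lib.Blocks.Defect2
open Cfsg.Agent.Lib.BlockOne.Count Cfsg.Agent.Lib.BlockOne.RankFR

universe u

/-- Elementary abelian subgroups are preserved by injective homomorphisms. -/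
theorem isElementaryAbelian_map {A B : Type u} [Group A] [Group B] {p : ℕ} {D : Subgroup A}
    (hD : IsElementaryAbelian p D) (f : A →* B) : IsElementaryAbelian p (D.map f) := by
  obtain ⟨hc, he⟩ := hD
  refine ⟨⟨⟨?_⟩⟩, ?_⟩
  · rintro ⟨_, a, ha, rfl⟩ ⟨_, b, hb, rfl⟩
    apply Subtype.ext
    have h1 : (⟨a, ha⟩ : D) * ⟨b, hb⟩ = ⟨b, hb⟩ * ⟨a, ha⟩ := hc.1.comm _ _
    have h2 : a * b = b * a := congrArg Subtype.val h1
    change f a * f b = f b * f a
    rw [← map_mul, ← map_mul, h2]
  · rintro _ ⟨a, ha, rfl⟩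
    rw [← map_pow, he a ha, map_one]

/-- The `p`-solvable case. -/
theorem isElementaryAbelian_of_isPSolvable {p : ℕ} [hp : Fact p.Prime] {M : Ideal AlgInt}
    (hM : IsPModular p M) : ∀ (n : ℕ) (G : Type u) [Group G] [Finite G], Nat.card G = n →
      IsPSolvable p G → ∀ B : Set (IrrCharacter G), IsPBlock M B → ∀ D : Subgroup G,
      IsDefectGroup p M B D → Nat.card B = blockRank p B + 1 → IsElementaryAbelian p D := by
  intro n
  induction n using Nat.strong_induction_on with
  | _ n ih =>
    intro G _ _ hn hG B hB D hD hk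
    classical
    cases nonempty_fintype G
    have hpp : p.Prime := hp.out
    haveI := isPrime_of_pModular hM
    haveI := finite_irrCharacter (G := G)
    letI : Fintype (IrrCharacter G) := Fintype.ofFinite _
    set K := pPrimeCore p G with hKdef
    haveI hKn : K.Normal := inferInstance
    letI : Fintype K := Fintype.ofFinite _
    haveI := finite_irrCharacter (G := K)
    letI : Fintype (IrrCharacter K) := Fintype.ofFinite _
    have hKp : ¬ p ∣ Nat.card K := by
      have h1 := Cfsg.Agent.Lib.SelfCent.CoreLemmas.pPrimeCore_coprime (G := G) p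
      exact (Nat.Prime.coprime_iff_not_dvd hpp).mp h1.symm
    obtain ⟨χ, hχ⟩ := isPBlock_nonempty hB
    have hres : IsClassFunction K (fun k : K => (χ : G → ℂ) k) := fun g h =>
      isClassFunction_of_isIrrCharacter χ.2 _ _
    have hne : (fun k : K => (χ : G → ℂ) k) ≠ 0 := by
      intro h0
      have h1 := congrFun h0 1
      exact irr_one_ne_zero χ.2 h1
    obtain ⟨θf, hθf, hcon⟩ := exists_irr_constituent hres hne
    let θ : IrrCharacter K := ⟨θf, hθf⟩
    by_cases hinv : ∀ g : G, conjOn hKn g (θ : K → ℂ) = (θ : K → ℂ)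
    · -- the invariant case: Fong's theorem
      set L := pPrimePCore p G with hLdef
      haveI hLn : L.Normal := inferInstance
      have hKL : K ≤ L := Cfsg.Agent.Lib.Core.Series.pPrimeCore_le_pPrimePCore
      have hLp : ∀ l ∈ L, ∃ k : ℕ, l ^ (p ^ k) ∈ K := fun l hl =>
        Cfsg.Agent.Lib.Core.Series.exists_pow_mem_pPrimeCore hl
      obtain ⟨Q⟩ : Nonempty (Sylow p L) := inferInstance
      have hC := Cfsg.Agent.Lib.Core.PSolvable.isPConstrained_of_isPSolvable hG Q
      have hle : (Q : Subgroup L).map L.subtype ≤ L := Subgroup.map_subtype_le _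
      have hQS : ¬ p ∣ ((Q : Subgroup L).map L.subtype).relIndex L := by
        have h0 : ((Q : Subgroup L).map L.subtype).subgroupOf L = Q :=
          Subgroup.comap_map_eq_self_of_injective L.subtype_injective _
        rw [Subgroup.relIndex, h0]
        exact Q.not_dvd_index
      have hHH := Cfsg.Agent.Lib.CharTriple.Fong.hh_of_constrained hKL hKp hLp hle (Q.2.map _) hQS hC
      let B₂ : Set (IrrCharacter G) := {χ | classInner (fun k : K => (χ : G → ℂ) k) (θ : K → ℂ) ≠ 0}
      obtain ⟨h1, -, h3⟩ := Cfsg.Agent.Lib.CharTriple.Fong.fong_main hM K L hKL hKp hLp hHH θ hinv B₂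
        (fun _ => Iff.rfl)
      have hBB : B = B₂ := isPBlock_mem_unique hB h1 hχ hcon
      have hD₂ : IsDefectGroup p M B₂ D := hBB ▸ hD
      obtain ⟨P, rfl⟩ := h3 D hD₂
      exact Cfsg.Agent.Lib.BlockOne.PSolvGroup.isElementaryAbelian_of_isPSolvable hG P
        (fun u hu v hv hu1 hv1 => isConj_of_card hM hB hD hk hu hv hu1 hv1)
    · -- the Fong-Reynolds reduction
      push Not at hinv
      obtain ⟨g₀, hg₀⟩ := hinv
      let T : Subgroup G := inertia hKn (θ : K → ℂ)
      have hNT : K ≤ T := le_inertia hKn (isClassFunction_of_isIrrCharacter θ.2)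
      have hbθ : blockOf M (θ : K → ℂ) = {θ} := by
        refine (Cfsg.Agent.Lib.Blocks.Inducing.blockOf_eq_singleton_iff hM θ).mp ?_
        intro hd
        exact hKp (hd.trans (Nat.div_dvd_of_dvd (Cfsg.Agent.Lib.Char.Degree.charDegree_dvd_card θ.2)))
      have hb : IsPBlock M ({θ} : Set (IrrCharacter K)) := ⟨θ, hbθ.symm⟩
      have hS : IsStab hKn ({θ} : Set (IrrCharacter K)) T := by
        intro g
        constructor
        · intro h θ' hθ'
          rw [Set.mem_singleton_iff] at hθ' ⊢
          subst hθ'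
          exact Subtype.ext h
        · intro h
          have h1 := h θ rfl
          rw [Set.mem_singleton_iff] at h1
          exact congrArg Subtype.val h1
      have hTne : T ≠ ⊤ := by
        intro h
        have : g₀ ∈ T := by rw [h]; trivial
        exact hg₀ this
      have hlt : Nat.card T < n := by
        rw [← hn]
        refine lt_of_le_of_ne (Subgroup.card_le_card_group T) ?_
        intro h
        exact hTne (Subgroup.eq_top_of_card_eq T h)
      letI : Fintype T := Fintype.ofFinite _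
      haveI := finite_irrCharacter (G := T)
      letI : Fintype (IrrCharacter T) := Fintype.ofFinite _
      letI : Fintype (G ⧸ T) := Fintype.ofFinite _
      obtain ⟨B', hB', ⟨ψ, hψB', θ', hθ', hcn⟩, hind⟩ := fr_part_three hb hNT hS hB ⟨χ, hχ, θ, rfl, hcon⟩
      have hψ := (omega_eT_eq_one_iff hNT hS ψ).mpr ⟨θ', hθ', hcn⟩
      have e' := isPBlock_eq_blockOf hB' hψB'
      have e := eq_blockOf_ind hb hNT hS hψ hψB' hind
      have horth := horth_eT hb hNT hS
      have hEE := eT_mul_self hNT hS
      have hEl := eT_mem_localCenter hb hS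
      have hcard := card_ind horth hEl hEE hψ
      have hrank := blockRank_ind horth hM hEl hEE hψ
      have hk' : Nat.card B' = blockRank p B' + 1 := by
        rw [e, hcard, hrank, ← e'] at hk
        exact hk
      obtain ⟨D', hD'⟩ := exists_isDefectGroup (p := p) hB'
      have hih := ih (Nat.card T) hlt T rfl (Cfsg.Agent.Lib.Core.PSolvable.isPSolvable_subgroup T hG)
        B' hB' D' hD' hk'
      have hD₁ := (fr_defect hM hb hNT hS hB' ⟨ψ, hψB', θ', hθ', hcn⟩ hind).1 D' hD'
      obtain ⟨t, ht⟩ := isDefectGroup_exists_conj_eq hM hB hD₁ hD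
      rw [ht]
      exact isElementaryAbelian_map (isElementaryAbelian_map hih T.subtype) _

end Cfsg.Agent.Lib.BlockOne.PSolv
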